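import Mathlib
import Groth.Agent.EtaleAlgebra.HensDomain

/-! Algebraic subextensions inside a field with a dominating discrete valuation have bounded degree. -/

set_option autoImplicit false
set_option linter.style.haveILetI false
universe u

open IsLocalRing

namespace Groth.Misc12.MilnorFibre

/-- Over a henselian discrete valuation ring with algebraically closed residue field, a finite
separable extension embedded in the fraction field of a dominating discrete valuation ring has degree
bounded by the value of the uniformizer. -/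
theorem finrank_le {V K E D F : Type u} [CommRing V] [IsDomain V] [IsDiscreteValuationRing V]
    [HenselianLocalRing V] [IsAlgClosed (ResidueField V)] [Field K] [Algebra V K] [IsFractionRing V K]
    [Field E] [Algebra V E] [Algebra K E] [IsScalarTower V K E] [FiniteDimensional K E]
    [Algebra.IsSeparable K E]
    [CommRing D] [IsDomain D] [IsDiscreteValuationRing D] [Field F] [Algebra D F] [IsFractionRing D F]
    [Algebra V D] [Algebra V F] [IsScalarTower V D F] (τ : E →ₐ[V] F)
    {π : V} (hπ0 : π ≠ 0) (hπ : algebraMap V D π ∈ maximalIdeal D)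
    (N : ℕ) (hN : algebraMap V D π ∉ maximalIdeal D ^ N) :
    Module.finrank K E ≤ N := by
  classical
  let W := integralClosure V E
  haveI : Module.Finite V W := IsIntegralClosure.finite V K E W
  haveI : IsDedekindDomain W := integralClosure.isDedekindDomain V K E
  haveI : FaithfulSMul V E := (faithfulSMul_iff_algebraMap_injective V E).2 (by
    rw [IsScalarTower.algebraMap_eq V K E]
    exact (algebraMap K E).injective.comp (IsFractionRing.injective V K))
  haveI : FaithfulSMul V W := (faithfulSMul_iff_algebraMap_injective V W).2 fun a b h =>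
    FaithfulSMul.algebraMap_injective V E (congrArg Subtype.val h)
  haveI : IsLocalRing W := Groth.EtaleAlgebra.isLocalRing_of_finite_domain V W
  have hnf : ¬ IsField W := fun h => IsDiscreteValuationRing.not_isField V
    (isField_of_isIntegral_of_isField (FaithfulSMul.algebraMap_injective V W) h)
  haveI : IsDiscreteValuationRing W := ((IsDiscreteValuationRing.TFAE W hnf).out 0 2).mpr ‹IsDedekindDomain W›
  obtain ⟨ϖ, hϖ⟩ := IsDiscreteValuationRing.exists_irreducible W
  have hmW : maximalIdeal W = Ideal.span {ϖ} := hϖ.maximalIdeal_eq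
  obtain ⟨e, u, hu⟩ := IsDiscreteValuationRing.eq_unit_mul_pow_irreducible
    (x := algebraMap V W π) ((map_ne_zero_iff _ (FaithfulSMul.algebraMap_injective V W)).2 hπ0) hϖ
  haveI : IsLocalHom (algebraMap V W) := Algebra.IsIntegral.isLocalHom V W
  haveI : Module.Finite (ResidueField V) (ResidueField W) := inferInstance
  have hres : ∀ w : W, ∃ v : V, w - algebraMap V W v ∈ maximalIdeal W := fun w => by
    obtain ⟨c, hc⟩ := (IsAlgClosed.algebraMap_bijective_of_isIntegral
      (k := ResidueField V) (K := ResidueField W)).2 (residue W w)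
    obtain ⟨v, rfl⟩ := residue_surjective c
    refine ⟨v, ?_⟩
    rw [← residue_eq_zero_iff, map_sub, ← hc, sub_eq_zero]
    rfl
  let S : Submodule V W := Submodule.span V (Set.range fun i : Fin e => ϖ ^ i.1)
  have hstep : ∀ j ≤ e, ∀ w : W, ∃ a ∈ S, ∃ z : W, w = a + ϖ ^ j * z := fun j => by
    induction j with
    | zero => exact fun _ w => ⟨0, S.zero_mem, w, by simp⟩
    | succ j ih =>
      intro hj w
      obtain ⟨a, ha, z, rfl⟩ := ih (Nat.le_of_succ_le hj) w
      obtain ⟨v, hv⟩ := hres z
      rw [hmW, Ideal.mem_span_singleton] at hv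
      obtain ⟨z', hz'⟩ := hv
      refine ⟨a + v • ϖ ^ j, S.add_mem ha (S.smul_mem v (Submodule.subset_span ⟨⟨j, hj⟩, rfl⟩)), z', ?_⟩
      rw [Algebra.smul_def, pow_succ]
      linear_combination ϖ ^ j * hz'
  have htop : (⊤ : Submodule V W) ≤ S := by
    refine Submodule.le_of_le_smul_of_le_jacobson_bot (I := maximalIdeal V) Module.Finite.fg_top
      (IsLocalRing.maximalIdeal_le_jacobson _) fun w _ => ?_
    obtain ⟨a, ha, z, rfl⟩ := hstep e le_rfl w
    refine Submodule.add_mem_sup ha ?_
    have h1 : ϖ ^ e * z = π • ((↑u⁻¹ : W) * z) := by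
      rw [Algebra.smul_def, hu]
      have := u.mul_inv
      linear_combination -(ϖ ^ e * z) * this
    rw [h1]
    refine Submodule.smul_mem_smul ?_ Submodule.mem_top
    rw [mem_maximalIdeal, mem_nonunits_iff]
    exact fun hπu => (mem_nonunits_iff.1 ((mem_maximalIdeal _).1 hπ)) (hπu.map _)
  -- `e` elements span
  have hspan : Submodule.span K (Set.range fun i : Fin e => ((ϖ ^ i.1 : W) : E)) = ⊤ := by
    refine eq_top_iff.2 fun x _ => ?_
    obtain ⟨c, hc0, hc⟩ := ((IsFractionRing.isAlgebraic_iff V K E).2
      (Algebra.IsAlgebraic.isAlgebraic (R := K) x)).exists_integral_multiple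
    have hmem : ∀ w ∈ S, (w : E) ∈ Submodule.span K (Set.range fun i : Fin e => ((ϖ ^ i.1 : W) : E)) := by
      intro w hw
      refine Submodule.span_induction ?_ ?_ ?_ ?_ hw
      · rintro _ ⟨i, rfl⟩; exact Submodule.subset_span ⟨i, rfl⟩
      · exact Submodule.zero_mem _
      · intro a b _ _ ha hb; exact Submodule.add_mem _ ha hb
      · intro a b _ hb
        show a • (b : E) ∈ _
        rw [← IsScalarTower.algebraMap_smul K a (b : E)]
        exact Submodule.smul_mem _ _ hb
    have h1 := hmem ⟨c • x, hc⟩ (htop Submodule.mem_top)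
    have hc1 : algebraMap V K c ≠ 0 := (map_ne_zero_iff _ (IsFractionRing.injective V K)).2 hc0
    have h2 := Submodule.smul_mem _ (algebraMap V K c)⁻¹ h1
    change (algebraMap V K c)⁻¹ • (c • x) ∈ _ at h2
    rwa [← IsScalarTower.algebraMap_smul K c x, smul_smul, inv_mul_cancel₀ hc1, one_smul] at h2
  have hne : Module.finrank K E ≤ e := by
    have h := finrank_le_of_span_eq_top hspan
    simpa using h
  refine hne.trans ?_
  -- compare with `D`
  have hWD : ∀ w : W, ∃ d : D, algebraMap D F d = τ w := fun w =>
    IsIntegrallyClosed.algebraMap_eq_of_integral ((w.2.map τ).tower_top)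
  choose ω hω using hWD
  have hinjD := IsFractionRing.injective D F
  have hωπ : algebraMap V D π = ω u * ω ϖ ^ e := hinjD (by
    rw [← IsScalarTower.algebraMap_apply V D F, map_mul, map_pow, hω, hω, ← τ.commutes, ← map_pow,
      ← map_mul]
    exact congrArg τ (congrArg Subtype.val hu))
  have hωu : IsUnit (ω u) := by
    refine IsUnit.of_mul_eq_one (ω (↑u⁻¹ : W)) (hinjD ?_)
    rw [map_mul, hω, hω, map_one, ← map_mul]
    exact (congrArg τ (congrArg Subtype.val u.mul_inv)).trans (map_one τ)
  have hωm : ω ϖ ∈ maximalIdeal D := by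
    rw [mem_maximalIdeal, mem_nonunits_iff]
    intro hu'
    apply mem_nonunits_iff.1 ((mem_maximalIdeal _).1 hπ)
    rw [hωπ]
    exact hωu.mul (hu'.pow e)
  by_contra hlt
  exact hN (hωπ ▸ Ideal.mul_mem_left _ _ (Ideal.pow_le_pow_right (not_le.1 hlt).le
    (Ideal.pow_mem_pow hωm e)))

end Groth.Misc12.MilnorFibre
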