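import Groth.Agent.Misc12.MilnorFibre.Noeth
import Groth.Agent.Misc12.MilnorFibre.Bound
import Groth.Agent.HTopHyper.DvrLift
import Groth.Agent.Hensel1.Transfer
import Groth.Prelude.Def_Hensel

/-! The algebraic Milnor fibre is Noetherian. -/

set_option autoImplicit false
set_option linter.style.haveILetI false
universe u

open IsLocalRing TensorProduct

namespace Groth.Misc12.MilnorFibre

/-- The residue fields of the generic fibre of a local algebra over a henselian DVR with algebraically
closed residue field contain only finite separable extensions of the fraction field. -/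
theorem finite_of_hom {V B : Type u} [CommRing V] [IsDomain V] [IsDiscreteValuationRing V]
    [HenselianLocalRing V] [IsAlgClosed (ResidueField V)] [CharZero V]
    [CommRing B] [IsLocalRing B] [IsNoetherianRing B] [Algebra V B]
    (hloc : (maximalIdeal V).map (algebraMap V B) ≤ maximalIdeal B)
    {K : Type u} [Field K] [Algebra V K] [IsFractionRing V K]
    (P : Ideal (K ⊗[V] B)) [P.IsPrime] (E : Type u) [Field E] [Algebra K E] [Algebra.IsAlgebraic K E]
    (σ : E →ₐ[K] P.ResidueField) : FiniteDimensional K E := by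
  classical
  let inc : B →ₐ[V] K ⊗[V] B := Algebra.TensorProduct.includeRight
  let PB := P.comap inc.toRingHom
  haveI : IsLocalRing (B ⧸ PB) := IsLocalRing.of_surjective' _ Ideal.Quotient.mk_surjective
  obtain ⟨D, _, _, _, θ, hθ, hθl⟩ := Groth.HTopHyper.exists_dvr_of_local (B ⧸ PB)
  let ω : B →+* D := θ.comp (Ideal.Quotient.mk PB)
  letI : Algebra V D := (ω.comp (algebraMap V B)).toAlgebra
  let F := FractionRing D
  have hK : ∀ v : V, v ≠ 0 → algebraMap V B v ∉ PB := fun v hv hmem => by
    have h1 : inc (algebraMap V B v) ∈ P := hmem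
    rw [AlgHom.commutes, IsScalarTower.algebraMap_apply V K (K ⊗[V] B)] at h1
    exact ‹P.IsPrime›.ne_top (P.eq_top_of_isUnit_mem h1
      ((isUnit_iff_ne_zero.2 ((map_ne_zero_iff _ (IsFractionRing.injective V K)).2 hv)).map _))
  have hinjV : Function.Injective (algebraMap V F) := by
    rw [injective_iff_map_eq_zero]
    intro v hv
    by_contra hv0
    rw [IsScalarTower.algebraMap_apply V D F, map_eq_zero_iff _ (IsFractionRing.injective D F)] at hv
    exact hK v hv0 (Ideal.Quotient.eq_zero_iff_mem.1 ((map_eq_zero_iff _ hθ).1 hv))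
  haveI : FaithfulSMul V F := (faithfulSMul_iff_algebraMap_injective V F).2 hinjV
  let jK : K →ₐ[V] F := IsFractionRing.liftAlgHom (g := Algebra.ofId V F) hinjV
  let jB : B →ₐ[V] F :=
    { (algebraMap D F).comp ω with
      commutes' := fun v => (IsScalarTower.algebraMap_apply V D F v).symm }
  let ψ : K ⊗[V] B →ₐ[V] F := Algebra.TensorProduct.lift jK jB fun _ _ => Commute.all _ _
  have hψinc : ∀ b, ψ (inc b) = algebraMap D F (ω b) := fun b => by
    show ψ ((1 : K) ⊗ₜ b) = _
    rw [Algebra.TensorProduct.lift_tmul, map_one, one_mul]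
    rfl
  have hclear : ∀ r : K ⊗[V] B, ∃ s : V, s ≠ 0 ∧ ∃ b : B, algebraMap V (K ⊗[V] B) s * r = inc b := by
    intro r
    induction r using TensorProduct.induction_on with
    | zero => exact ⟨1, one_ne_zero, 0, by simp⟩
    | tmul c b =>
      obtain ⟨a, s, hs, rfl⟩ := IsFractionRing.div_surjective (A := V) c
      refine ⟨s, nonZeroDivisors.ne_zero hs, a • b, ?_⟩
      have hs' : algebraMap V K s ≠ 0 :=
        (map_ne_zero_iff _ (IsFractionRing.injective V K)).2 (nonZeroDivisors.ne_zero hs)
      show _ = (1 : K) ⊗ₜ (a • b)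
      rw [← Algebra.smul_def, TensorProduct.smul_tmul', TensorProduct.tmul_smul, TensorProduct.smul_tmul',
        Algebra.smul_def, Algebra.smul_def, mul_one, mul_div_assoc', mul_div_cancel_left₀ _ hs']
    | add x y hx hy =>
      obtain ⟨s, hs, b, hb⟩ := hx
      obtain ⟨t, ht, c, hc⟩ := hy
      refine ⟨s * t, mul_ne_zero hs ht, algebraMap V B t * b + algebraMap V B s * c, ?_⟩
      rw [map_add inc, map_mul inc, map_mul inc, ← hb, ← hc, AlgHom.commutes, AlgHom.commutes, map_mul]
      ring
  have hψP : ∀ r, ψ r = 0 ↔ r ∈ P := by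
    intro r
    obtain ⟨s, hs, b, hb⟩ := hclear r
    have hunit : IsUnit (algebraMap V (K ⊗[V] B) s) := by
      rw [IsScalarTower.algebraMap_apply V K (K ⊗[V] B)]
      exact (isUnit_iff_ne_zero.2 ((map_ne_zero_iff _ (IsFractionRing.injective V K)).2 hs)).map _
    have h1 : ψ r = 0 ↔ ψ (inc b) = 0 := by
      rw [← hb, map_mul, AlgHom.commutes, mul_eq_zero, or_iff_right ((map_ne_zero_iff _ hinjV).2 hs)]
    have h2 : r ∈ P ↔ inc b ∈ P := by
      rw [← hb]
      exact (Ideal.unit_mul_mem_iff_mem P hunit).symm
    rw [h1, h2, hψinc, map_eq_zero_iff _ (IsFractionRing.injective D F)]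
    exact (map_eq_zero_iff _ hθ).trans Ideal.Quotient.eq_zero_iff_mem
  let χ : P.ResidueField →+* F := Ideal.ResidueField.lift P ψ.toRingHom
    (fun r hr => (hψP r).2 hr) (fun r hr => isUnit_iff_ne_zero.2 fun h => hr ((hψP r).1 h))
  obtain ⟨π, hπ⟩ := IsDiscreteValuationRing.exists_irreducible V
  have hπm : algebraMap V D π ∈ maximalIdeal D := by
    rw [mem_maximalIdeal, mem_nonunits_iff]
    intro hu
    haveI := hθl
    have h1 : IsUnit (Ideal.Quotient.mk PB (algebraMap V B π)) :=
      IsUnit.of_map θ _ hu
    haveI := IsLocalHom.of_surjective (Ideal.Quotient.mk PB) Ideal.Quotient.mk_surjective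
    exact mem_nonunits_iff.1 ((mem_maximalIdeal _).1 (hloc (Ideal.mem_map_of_mem _
      (by rw [mem_maximalIdeal, mem_nonunits_iff]; exact hπ.not_isUnit))))
      (IsUnit.of_map (Ideal.Quotient.mk PB) _ h1)
  have hπD : algebraMap V D π ≠ 0 := fun h => hK π hπ.ne_zero
    (Ideal.Quotient.eq_zero_iff_mem.1 ((map_eq_zero_iff _ hθ).1 h))
  obtain ⟨N, hN⟩ : ∃ N : ℕ, algebraMap V D π ∉ maximalIdeal D ^ N := by
    by_contra! h
    refine hπD ?_
    have h1 : algebraMap V D π ∈ ⨅ n : ℕ, maximalIdeal D ^ n := by simpa [Submodule.mem_iInf] using h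
    rwa [Ideal.iInf_pow_eq_bot_of_isLocalRing _ (maximalIdeal.isMaximal D).ne_top, Ideal.mem_bot] at h1
  haveI : CharZero K := charZero_of_injective_algebraMap (IsFractionRing.injective V K)
  refine Module.rank_lt_aleph0_iff.1 (lt_of_le_of_lt (rank_le (n := N) fun s hs => ?_)
    Cardinal.natCast_lt_aleph0)
  let E' : IntermediateField K E := IntermediateField.adjoin K (s : Set E)
  haveI : FiniteDimensional K E' :=
    IntermediateField.finiteDimensional_adjoin fun y _ => (Algebra.IsAlgebraic.isAlgebraic y).isIntegral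
  haveI : Algebra.IsSeparable K E' := inferInstance
  letI : Algebra V E' := ((algebraMap K E').comp (algebraMap V K)).toAlgebra
  haveI : IsScalarTower V K E' := IsScalarTower.of_algebraMap_eq fun _ => rfl
  let τ : E' →ₐ[V] F :=
    { χ.comp (σ.comp E'.val).toRingHom with
      commutes' := fun v => by
        show χ ((σ.comp E'.val) (algebraMap K E' (algebraMap V K v))) = algebraMap V F v
        rw [AlgHom.commutes, IsScalarTower.algebraMap_apply K (K ⊗[V] B) P.ResidueField,
          Ideal.ResidueField.lift_algebraMap, ← IsScalarTower.algebraMap_apply V K (K ⊗[V] B)]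
        exact ψ.commutes v }
  have hle := finrank_le (K := K) τ hπ.ne_zero hπm N hN
  refine le_trans ?_ hle
  let f : s → E' := fun x => ⟨x.1, IntermediateField.subset_adjoin K _ x.2⟩
  have hf : LinearIndependent K f := LinearIndependent.of_comp E'.val.toLinearMap hs
  simpa using hf.fintype_card_le_finrank

/-- `L ⊗_V B` is Noetherian for a Noetherian local `V`-algebra `B` with `L` algebraically closed. -/
theorem isNoetherianRing_of_local (V : Type u) [CommRing V] [IsDomain V]
    [IsDiscreteValuationRing V] [HenselianLocalRing V] [IsAlgClosed (ResidueField V)] [CharZero V]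
    (L : Type u) [Field L] [IsAlgClosed L] [Algebra V L] [FaithfulSMul V L] [Algebra.IsAlgebraic V L]
    (B : Type u) [CommRing B] [IsLocalRing B] [IsNoetherianRing B] [Algebra V B]
    (hloc : (maximalIdeal V).map (algebraMap V B) ≤ maximalIdeal B) :
    IsNoetherianRing (L ⊗[V] B) := by
  let K := FractionRing V
  letI : Algebra K L := FractionRing.liftAlgebra V L
  haveI : IsScalarTower V K L := FractionRing.isScalarTower_liftAlgebra V L
  haveI : Algebra.IsAlgebraic K L :=
    (IsFractionRing.comap_isAlgebraic_iff (A := V) (K := K) (C := L)).1 ‹_›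
  haveI : CharZero K := charZero_of_injective_algebraMap (IsFractionRing.injective V K)
  haveI : IsNoetherianRing (B ⊗[V] K) := by
    haveI : Algebra.EssFiniteType V K := .of_isLocalization K (nonZeroDivisors V)
    exact Algebra.EssFiniteType.isNoetherianRing B _
  haveI : IsNoetherianRing (K ⊗[V] B) :=
    isNoetherianRing_of_ringEquiv _ (Algebra.TensorProduct.comm V B K).toRingEquiv
  haveI : IsNoetherianRing (L ⊗[K] (K ⊗[V] B)) :=
    isNoetherianRing_tensor fun P _ E σ => finite_of_hom hloc P E σ
  exact isNoetherianRing_of_ringEquiv _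
    (Algebra.TensorProduct.cancelBaseChange V K L L B).toRingEquiv

theorem isNoetherianRing_milnor (V : Type u) [CommRing V] [IsDomain V]
    [IsDiscreteValuationRing V] [HenselianLocalRing V] [IsSepClosed (ResidueField V)]
    [PerfectField (ResidueField V)] [CharZero V]
    (L : Type u) [Field L] [IsAlgClosed L] [Algebra V L] [FaithfulSMul V L] [Algebra.IsAlgebraic V L]
    (A : Type u) [CommRing A] [Algebra V A] [Algebra.FiniteType V A]
    (m : Ideal A) [m.IsMaximal]
    (hm : Function.Surjective ((Ideal.Quotient.mk m).comp (algebraMap V A)))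
    (B : Type u) [CommRing B] [IsLocalRing B] [Algebra (Localization.AtPrime m) B]
    [IsLocalHom (algebraMap (Localization.AtPrime m) B)]
    [Hensel.IsHenselization (Localization.AtPrime m) B]
    [Algebra V B] [IsScalarTower V (Localization.AtPrime m) B] :
    IsNoetherianRing (L ⊗[V] B) := by
  haveI : IsNoetherianRing A := Algebra.FiniteType.isNoetherianRing V A
  haveI : IsNoetherianRing (Localization.AtPrime m) :=
    IsLocalization.isNoetherianRing m.primeCompl _ inferInstance
  obtain ⟨M⟩ := Groth.Hensel1.hensModel_of_isHenselization (R := Localization.AtPrime m) (S := B)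
  haveI : IsNoetherianRing B := M.isNoetherianRing_iff.mp inferInstance
  have hmV : maximalIdeal V ≤ m.comap (algebraMap V A) := by
    letI : Field (A ⧸ m) := Ideal.Quotient.field m
    have h := RingHom.ker_isMaximal_of_surjective ((Ideal.Quotient.mk m).comp (algebraMap V A)) hm
    rw [← RingHom.comap_ker, Ideal.mk_ker] at h
    exact (IsLocalRing.eq_maximalIdeal h).ge
  have hloc : (maximalIdeal V).map (algebraMap V B) ≤ maximalIdeal B := by
    rw [IsScalarTower.algebraMap_eq V (Localization.AtPrime m) B, ← Ideal.map_map,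
      IsScalarTower.algebraMap_eq V A (Localization.AtPrime m), ← Ideal.map_map]
    refine le_trans (Ideal.map_mono ((Ideal.map_mono (Ideal.map_le_iff_le_comap.2 hmV)).trans
      (Localization.AtPrime.map_eq_maximalIdeal).le)) ?_
    exact ((local_hom_TFAE (algebraMap (Localization.AtPrime m) B)).out 0 2).mp (inferInstance : IsLocalHom (algebraMap (Localization.AtPrime m) B))
  exact isNoetherianRing_of_local V L B hloc

end Groth.Misc12.MilnorFibre
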