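import Mathlib

/-! Noetherianity of the base change of a Noetherian algebra to an algebraic closure. -/

set_option autoImplicit false
set_option linter.style.haveILetI false
universe u

open TensorProduct Polynomial

namespace Groth.Misc12.MilnorFibre

/-- An algebraically closed separable algebraic extension is linearly disjoint from any field meeting
it in the base. -/
theorem injective_lift {E L κ M : Type u} [Field E] [Field L] [Field κ] [Field M]
    [Algebra E L] [Algebra E κ] [Algebra E M] [Algebra L M] [Algebra κ M]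
    [IsScalarTower E L M] [IsScalarTower E κ M] [IsAlgClosed L] [Algebra.IsSeparable E L]
    (hinter : ∀ (l : L) (c : κ), algebraMap L M l = algebraMap κ M c → l ∈ (algebraMap E L).range) :
    Function.Injective (Algebra.TensorProduct.lift (IsScalarTower.toAlgHom E L M)
      (IsScalarTower.toAlgHom E κ M) fun _ _ => Commute.all _ _) := by
  classical
  set Φ := Algebra.TensorProduct.lift (IsScalarTower.toAlgHom E L M)
      (IsScalarTower.toAlgHom E κ M) fun _ _ => Commute.all _ _ with hΦ
  have hdeg : ∀ (θ : L) (q : κ[X]), q.eval₂ (algebraMap κ M) (algebraMap L M θ) = 0 →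
      q.degree < (minpoly E θ).degree → q = 0 := by
    intro θ q hq hlt
    by_contra hq0
    have hint : IsIntegral E θ := (Algebra.IsSeparable.isIntegral E θ)
    have hintM : IsIntegral κ (algebraMap L M θ) :=
      (hint.map (IsScalarTower.toAlgHom E L M)).tower_top
    set g := minpoly κ (algebraMap L M θ) with hg
    have hgq : g.degree ≤ q.degree := Polynomial.degree_le_of_dvd (minpoly.dvd κ _ hq) hq0
    set fL := (minpoly E θ).map (algebraMap E L) with hfL
    have hfLm : fL.Monic := (minpoly.monic hint).map _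
    have hdvd : g.map (algebraMap κ M) ∣ fL.map (algebraMap L M) := by
      have h1 : g ∣ (minpoly E θ).map (algebraMap E κ) := by
        refine minpoly.dvd κ _ ?_
        rw [Polynomial.aeval_def, Polynomial.eval₂_map, ← IsScalarTower.algebraMap_eq,
          IsScalarTower.algebraMap_eq E L M, ← Polynomial.hom_eval₂, ← Polynomial.aeval_def, minpoly.aeval,
          map_zero]
      have h2 := Polynomial.map_dvd (algebraMap κ M) h1
      rwa [Polynomial.map_map, ← IsScalarTower.algebraMap_eq, IsScalarTower.algebraMap_eq E L M,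
        ← Polynomial.map_map] at h2
    have hspl : (fL.map (algebraMap L M)).Splits := (IsAlgClosed.splits fL).map (algebraMap L M)
    have hgM : (g.map (algebraMap κ M)).Monic := (minpoly.monic hintM).map _
    have hgs : (g.map (algebraMap κ M)).Splits := hspl.of_dvd (hfLm.map _).ne_zero hdvd
    have hlifts : g.map (algebraMap κ M) ∈ Polynomial.lifts (algebraMap L M) := by
      rw [Polynomial.mem_lifts]
      have hroots : (g.map (algebraMap κ M)).roots ≤ fL.roots.map (algebraMap L M) := by
        rw [← (IsAlgClosed.splits fL).roots_map (algebraMap L M)]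
        exact Polynomial.roots.le_of_dvd (hfLm.map _).ne_zero hdvd
      obtain ⟨s, hs⟩ : ∃ s : Multiset L, s.map (algebraMap L M) = (g.map (algebraMap κ M)).roots := by
        have hall : ∀ x ∈ (g.map (algebraMap κ M)).roots, ∃ l, algebraMap L M l = x := fun x hx => by
          obtain ⟨l, -, hl⟩ := Multiset.mem_map.1 (Multiset.mem_of_le hroots hx)
          exact ⟨l, hl⟩
        choose f hf using hall
        refine ⟨(g.map (algebraMap κ M)).roots.attach.map fun x => f x.1 x.2, ?_⟩
        rw [Multiset.map_map]
        conv_rhs => rw [← Multiset.attach_map_val (g.map (algebraMap κ M)).roots]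
        exact Multiset.map_congr rfl fun x _ => hf x.1 x.2
      refine ⟨(s.map fun a => X - C a).prod, ?_⟩
      rw [hgs.eq_prod_roots_of_monic hgM, ← hs, Polynomial.map_multiset_prod, Multiset.map_map,
        Multiset.map_map]
      simp [Function.comp_def]
    obtain ⟨gL, hgL⟩ := (Polynomial.mem_lifts _).1 hlifts
    have hE : gL ∈ Polynomial.lifts (algebraMap E L) := (Polynomial.lifts_iff_coeff_lifts _).2 fun i =>
      RingHom.mem_range.1 (hinter (gL.coeff i) (g.coeff i) (by rw [← coeff_map, hgL, coeff_map]))
    obtain ⟨gE, hgE⟩ := (Polynomial.mem_lifts _).1 hE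
    have hgE0 : gE ≠ 0 := fun h0 => hgM.ne_zero (by rw [← hgL, ← hgE, h0, Polynomial.map_zero, Polynomial.map_zero])
    have hroot : Polynomial.aeval θ gE = 0 := by
      refine (algebraMap L M).injective ?_
      rw [Polynomial.aeval_def, Polynomial.hom_eval₂, map_zero, ← IsScalarTower.algebraMap_eq,
        ← Polynomial.eval_map, IsScalarTower.algebraMap_eq E L M, ← Polynomial.map_map, hgE, hgL,
        Polynomial.eval_map]
      exact minpoly.aeval κ _
    have hge : (minpoly E θ).degree ≤ gE.degree := minpoly.degree_le_of_ne_zero E θ hgE0 hroot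
    have heq : gE.degree = g.degree := by
      rw [← Polynomial.degree_map g (algebraMap κ M), ← hgL, ← hgE, Polynomial.degree_map, Polynomial.degree_map]
    exact absurd (hge.trans (heq.le.trans hgq)) (not_le.2 hlt)
  rw [injective_iff_map_eq_zero]
  intro x hx
  obtain ⟨s, hs⟩ := TensorProduct.exists_finset x
  let N : IntermediateField E L := IntermediateField.adjoin E (s.image Prod.fst : Set L)
  haveI : FiniteDimensional E N :=
    IntermediateField.finiteDimensional_adjoin fun y _ => Algebra.IsSeparable.isIntegral E y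
  obtain ⟨y, hy⟩ : ∃ y : N ⊗[E] κ, Algebra.TensorProduct.map N.val (AlgHom.id E κ) y = x := by
    refine ⟨∑ p ∈ s.attach, (⟨p.1.1, IntermediateField.subset_adjoin E _ (by
      simpa using ⟨p.1.2, p.2⟩)⟩ : N) ⊗ₜ[E] p.1.2, ?_⟩
    rw [hs, map_sum, ← Finset.sum_attach s]
    rfl
  obtain ⟨θ, hθ⟩ := Field.exists_primitive_element E N
  have hθi : IsIntegral E θ := IsIntegral.of_finite E θ
  let pb : PowerBasis E N := ((IntermediateField.adjoin.powerBasis hθi).map
    ((IntermediateField.equivOfEq hθ).trans IntermediateField.topEquiv))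
  have hgen : (pb.gen : L) = θ.1 := rfl
  have hdim : pb.dim = (minpoly E θ.1).natDegree := by
    rw [show minpoly E θ.1 = minpoly E θ from minpoly.algebraMap_eq (algebraMap N L).injective θ]
    rfl
  obtain ⟨c, rfl⟩ := (TensorProduct.equivFinsuppOfBasisLeft pb.basis).symm.surjective y
  rw [TensorProduct.equivFinsuppOfBasisLeft_symm_apply] at hy
  let q : κ[X] := ∑ i : Fin pb.dim, monomial i.1 (c i)
  have hx2 : x = ∑ i : Fin pb.dim, (θ.1 ^ i.1) ⊗ₜ[E] c i := by
    rw [← hy, Finsupp.sum_fintype _ _ (fun i => by simp), map_sum]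
    refine Finset.sum_congr rfl fun i _ => ?_
    rw [Algebra.TensorProduct.map_tmul, PowerBasis.basis_eq_pow]
    rfl
  have hq : q.eval₂ (algebraMap κ M) (algebraMap L M θ.1) = 0 := by
    rw [← hx, hx2, map_sum, Polynomial.eval₂_finsetSum]
    refine Finset.sum_congr rfl fun i _ => ?_
    rw [Polynomial.eval₂_monomial, hΦ, Algebra.TensorProduct.lift_tmul, map_pow, mul_comm]
    rfl
  have hq0 : q = 0 := hdeg θ.1 q hq (by
    rw [Polynomial.degree_eq_natDegree (minpoly.ne_zero (Algebra.IsSeparable.isIntegral E θ.1)), ← hdim]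
    refine lt_of_le_of_lt (Polynomial.degree_sum_le _ _) ((Finset.sup_lt_iff (WithBot.bot_lt_coe _)).2 fun i _ => ?_)
    exact (Polynomial.degree_monomial_le _ _).trans_lt (WithBot.coe_lt_coe.2 i.2))
  rw [hx2]
  refine Finset.sum_eq_zero fun i _ => ?_
  have h1 : q.coeff i.1 = c i := by
    simp only [q, Polynomial.finsetSum_coeff, Polynomial.coeff_monomial]
    rw [Finset.sum_eq_single i (fun j _ hj => if_neg fun h => hj (Fin.ext h)) (by simp), if_pos rfl]
  rw [← h1, hq0, coeff_zero, TensorProduct.tmul_zero]

set_option maxHeartbeats 1000000 in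
/-- The kernel of a map from `L ⊗ R` which is injective on `L ⊗_E κ` comes from `E ⊗ R`. -/
theorem fg_ker {K E L R κ M : Type u} [Field K] [Field E] [Field L] [CommRing R] [Field κ] [Field M]
    [Algebra K E] [Algebra K L] [Algebra E L] [IsScalarTower K E L] [Algebra K R] [IsNoetherianRing R]
    [FiniteDimensional K E] [Algebra K κ] [Algebra E κ] [IsScalarTower K E κ] [Algebra K M]
    [Algebra L M] [Algebra E M] [Algebra κ M] [IsScalarTower E L M] [IsScalarTower E κ M]
    [IsScalarTower K L M] [IsScalarTower K κ M]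
    (hinj : Function.Injective (Algebra.TensorProduct.lift (IsScalarTower.toAlgHom E L M)
      (IsScalarTower.toAlgHom E κ M) fun _ _ => Commute.all _ _))
    (ρ : R →ₐ[K] κ) (τ : L ⊗[K] R →ₐ[K] M)
    (hτ : ∀ l r, τ (l ⊗ₜ r) = algebraMap L M l * algebraMap κ M (ρ r)) :
    (RingHom.ker τ.toRingHom).FG := by
  let χ : E ⊗[K] R →ₐ[E] κ := Algebra.TensorProduct.lift (Algebra.ofId E κ) ρ fun _ _ => Commute.all _ _
  haveI : Algebra.FiniteType R (R ⊗[K] E) := inferInstance
  haveI : IsNoetherianRing (R ⊗[K] E) := Algebra.FiniteType.isNoetherianRing R (R ⊗[K] E)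
  haveI : IsNoetherianRing (E ⊗[K] R) :=
    isNoetherianRing_of_ringEquiv _ (Algebra.TensorProduct.comm K R E).toRingEquiv
  let e : L ⊗[E] (E ⊗[K] R) ≃ₐ[L] L ⊗[K] R := Algebra.TensorProduct.cancelBaseChange K E L L R
  let Φ := Algebra.TensorProduct.lift (IsScalarTower.toAlgHom E L M)
      (IsScalarTower.toAlgHom E κ M) fun _ _ => Commute.all _ _
  let m₁ : L ⊗[E] (E ⊗[K] R) →ₐ[E] L ⊗[E] χ.range :=
    Algebra.TensorProduct.map (AlgHom.id E L) χ.rangeRestrict
  let m₂ : L ⊗[E] χ.range →ₐ[E] L ⊗[E] κ :=
    Algebra.TensorProduct.map (AlgHom.id E L) χ.range.val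
  have hm₂ : Function.Injective m₂ :=
    Module.Flat.lTensor_preserves_injective_linearMap (M := L) χ.range.val.toLinearMap
      Subtype.val_injective
  have hcomp : ∀ z, τ (e z) = Φ (m₂ (m₁ z)) := by
    intro z
    induction z using TensorProduct.induction_on with
    | zero => simp only [map_zero]
    | add x y hx hy => simp only [map_add, hx, hy]
    | tmul l z =>
      induction z using TensorProduct.induction_on with
      | zero => simp only [TensorProduct.tmul_zero, map_zero]
      | add x y hx hy => simp only [TensorProduct.tmul_add, map_add, hx, hy]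
      | tmul a r =>
        show τ (e (l ⊗ₜ (a ⊗ₜ r))) = algebraMap L M l * algebraMap κ M (χ (a ⊗ₜ r))
        rw [Algebra.TensorProduct.cancelBaseChange_tmul, hτ, Algebra.TensorProduct.lift_tmul,
          Algebra.smul_def, map_mul, map_mul, ← IsScalarTower.algebraMap_apply E L M]
        show _ = _ * (algebraMap κ M (algebraMap E κ a) * _)
        rw [← IsScalarTower.algebraMap_apply E κ M]
        ring
  have hker : RingHom.ker τ.toRingHom = ((RingHom.ker χ).map (Algebra.TensorProduct.includeRight :
      E ⊗[K] R →ₐ[E] L ⊗[E] (E ⊗[K] R))).map e.toRingEquiv.toRingHom := by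
    have hk : RingHom.ker m₁ = (RingHom.ker χ).map (Algebra.TensorProduct.includeRight :
        E ⊗[K] R →ₐ[E] L ⊗[E] (E ⊗[K] R)) := by
      refine (Algebra.TensorProduct.lTensor_ker _ χ.rangeRestrict_surjective).trans ?_
      congr 1
      ext x
      simp only [RingHom.mem_ker]
      exact ⟨fun h => congrArg Subtype.val h, fun h => Subtype.ext h⟩
    rw [← hk]
    ext z
    rw [Ideal.mem_map_iff_of_surjective e.toRingEquiv.toRingHom e.surjective, RingHom.mem_ker]
    constructor
    · intro hz
      refine ⟨e.symm z, ?_, e.apply_symm_apply z⟩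
      have h1 := hcomp (e.symm z)
      rw [e.apply_symm_apply, show τ z = 0 from hz] at h1
      rw [RingHom.mem_ker]
      exact hm₂ (hinj (h1.symm.trans (by rw [map_zero, map_zero])))
    · rintro ⟨w, hw, rfl⟩
      show τ (e w) = 0
      rw [hcomp, RingHom.mem_ker.1 hw, map_zero, map_zero]
  rw [hker]
  exact ((Ideal.fg_of_isNoetherianRing (RingHom.ker χ)).map _).map _

set_option maxHeartbeats 1000000 in
/-- If in every residue field of `R` only finite subextensions of `L` embed, then `L ⊗ R` is
Noetherian. -/
theorem isNoetherianRing_tensor {K L R : Type u} [Field K] [Field L] [CommRing R] [Algebra K L]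
    [Algebra K R] [IsNoetherianRing R] [IsAlgClosed L] [Algebra.IsAlgebraic K L] [Algebra.IsSeparable K L]
    (hfin : ∀ (P : Ideal R) [P.IsPrime] (E : IntermediateField K L),
      (E →ₐ[K] P.ResidueField) → FiniteDimensional K E) :
    IsNoetherianRing (L ⊗[K] R) := by
  refine IsNoetherianRing.of_prime fun Q _ => ?_
  let inc : R →ₐ[K] L ⊗[K] R := Algebra.TensorProduct.includeRight
  let P := Q.comap inc.toRingHom
  let ι : P.ResidueField →ₐ[K] Q.ResidueField := Ideal.ResidueField.mapₐ P Q inc rfl
  let jL : L →ₐ[K] Q.ResidueField := IsScalarTower.toAlgHom K L Q.ResidueField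
  let E : IntermediateField K L := ι.fieldRange.comap jL
  let σ : E →ₐ[K] P.ResidueField := (AlgEquiv.ofInjectiveField ι).symm.toAlgHom.comp
    ((jL.comp E.val).codRestrict ι.range fun e => e.2)
  have hσ : ∀ e : E, ι (σ e) = jL e.1 := fun e =>
    congrArg Subtype.val ((AlgEquiv.ofInjectiveField ι).apply_symm_apply _)
  haveI : FiniteDimensional K E := hfin P E σ
  letI : Algebra E P.ResidueField := σ.toRingHom.toAlgebra
  letI : Algebra P.ResidueField Q.ResidueField := ι.toRingHom.toAlgebra
  haveI : IsScalarTower K E P.ResidueField := IsScalarTower.of_algebraMap_eq fun k => (σ.commutes k).symm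
  haveI : IsScalarTower E P.ResidueField Q.ResidueField := IsScalarTower.of_algebraMap_eq fun e => by
    show algebraMap E Q.ResidueField e = ι (σ e)
    rw [hσ]
    exact IsScalarTower.algebraMap_apply E L Q.ResidueField e
  haveI : Algebra.IsSeparable E L := Algebra.isSeparable_tower_top_of_isSeparable K E L
  have hinj := injective_lift (E := E) (L := L) (κ := P.ResidueField) (M := Q.ResidueField)
    fun l c hlc => ⟨⟨l, ⟨c, hlc.symm⟩⟩, rfl⟩
  haveI : IsScalarTower K P.ResidueField Q.ResidueField :=
    IsScalarTower.of_algebraMap_eq fun k => (ι.commutes k).symm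
  have hfg := fg_ker (K := K) (E := E) (L := L) (κ := P.ResidueField) (M := Q.ResidueField) hinj
    (IsScalarTower.toAlgHom K R P.ResidueField) (IsScalarTower.toAlgHom K (L ⊗[K] R) Q.ResidueField)
    fun l r => by
      show algebraMap (L ⊗[K] R) Q.ResidueField (l ⊗ₜ r) =
        jL l * ι (algebraMap R P.ResidueField r)
      rw [show ι (algebraMap R P.ResidueField r) = algebraMap (L ⊗[K] R) Q.ResidueField (inc r) from
        Ideal.ResidueField.map_algebraMap _ _ _ _ _,
        show l ⊗ₜ[K] r = algebraMap L (L ⊗[K] R) l * inc r by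
          simp [inc, Algebra.TensorProduct.algebraMap_apply], map_mul,
        ← IsScalarTower.algebraMap_apply]
      rfl
  have hQ : RingHom.ker (IsScalarTower.toAlgHom K (L ⊗[K] R) Q.ResidueField).toRingHom = Q :=
    Q.ker_algebraMap_residueField
  rwa [hQ] at hfg

end Groth.Misc12.MilnorFibre
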